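import Cfsg.Agent.OD.Pre
import Cfsg.Agent.H6.TCTop
import Cfsg.Agent.H6.D4T1.C
set_option autoImplicit false
set_option maxRecDepth 100000
set_option Elab.async false
set_option linter.all false
namespace CfH6.D4T1
open CfH6
theorem p0 : C.OkL 256 2560 := C.okL_of 256 18 0 2560 (by decide) (by decide +kernel)
theorem p1 : C.OkL 2560 4608 := C.okL_of 2560 16 0 4608 (by decide) (by decide +kernel)
theorem p2 : C.OkL 4608 6528 := C.okL_of 4608 15 0 6528 (by decide) (by decide +kernel)
theorem p3 : C.OkL 6528 8320 := C.okL_of 6528 14 0 8320 (by decide) (by decide +kernel)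
theorem p4 : C.OkL 8320 10368 := C.okL_of 8320 16 0 10368 (by decide) (by decide +kernel)
theorem p5 : C.OkL 10368 12544 := C.okL_of 10368 17 0 12544 (by decide) (by decide +kernel)
theorem p6 : C.OkL 12544 14720 := C.okL_of 12544 17 0 14720 (by decide) (by decide +kernel)
theorem p7 : C.OkL 14720 16896 := C.okL_of 14720 17 0 16896 (by decide) (by decide +kernel)
theorem p8 : C.OkL 16896 17728 := C.okL_of 16896 6 64 17728 (by decide) (by decide +kernel)
theorem p9 : C.OkR 17728 20160 := C.okR_of 17728 19 0 20160 (by decide) (by decide +kernel)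
theorem p10 : C.OkR 20160 22592 := C.okR_of 20160 19 0 22592 (by decide) (by decide +kernel)
theorem p11 : C.OkR 22592 25152 := C.okR_of 22592 20 0 25152 (by decide) (by decide +kernel)
theorem p12 : C.OkR 25152 25811 := C.okR_of 25152 5 19 25811 (by decide) (by decide +kernel)
end CfH6.D4T1
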